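import Mathlib.LinearAlgebra.BilinearForm.DualLattice
import Mathlib.LinearAlgebra.BilinearForm.Properties
import Mathlib.RingTheory.TensorProduct.Free
import Mathlib.LinearAlgebra.TensorProduct.Tower
import Mathlib.LinearAlgebra.LinearIndependent.Lemmas
import Mathlib.FieldTheory.Fixed

/-!
# Lattices in `W ⊗ E` and the dual basis isomorphism

`E/k` a finite extension of fields, `W` a commutative `k`-algebra, `A = W ⊗ E`.

* `exists_dual`: dual bases of `E` for the form `(x, y) ↦ τ(x y)`;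
* `tA τ : A → W`, `w ⊗ x ↦ τ(x) w`;
* `LN N ⊆ A`: the elements with coordinates in `N ⊆ W`;
* `Phi e e' f = ∑ f(e_j) ⊗ e'_j` for `f : E → W`.
-/

set_option autoImplicit false

universe u v w w'

open scoped TensorProduct
open Module

noncomputable section

namespace K44.HomA

section Dual

variable {k : Type u} [Field k] {E : Type v} [Field E] [Algebra k E] {ι : Type*} [Fintype ι] [DecidableEq ι]

/-- The bilinear form `τ(x y)`. -/
def form (τ : E →ₗ[k] k) : LinearMap.BilinForm k E := (LinearMap.mul k E).compr₂ τ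

theorem form_apply (τ : E →ₗ[k] k) (x y : E) : form τ x y = τ (x * y) := rfl

theorem form_nondegenerate {τ : E →ₗ[k] k} (hτ : τ ≠ 0) : (form τ).Nondegenerate := by
  obtain ⟨z, hz⟩ : ∃ z, τ z ≠ 0 := by
    by_contra h
    push Not at h
    exact hτ (LinearMap.ext h)
  have key : ∀ x : E, (∀ y, τ (x * y) = 0) → x = 0 := by
    intro x hx
    by_contra hx0
    exact hz (by rw [← hx (x⁻¹ * z), mul_inv_cancel_left₀ hx0])
  constructor
  · intro x hx
    exact key x fun y => hx y
  · intro x hx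
    exact key x fun y => by rw [mul_comm]; exact hx y

theorem exists_dual (e : Basis ι k E) {τ : E →ₗ[k] k} (hτ : τ ≠ 0) :
    ∃ e' : Basis ι k E, ∀ i j, τ (e i * e' j) = if i = j then 1 else 0 := by
  have : FiniteDimensional k E := Module.Finite.of_basis e
  refine ⟨(form τ).dualBasis (form_nondegenerate hτ) e, fun i j => ?_⟩
  have h := LinearMap.BilinForm.apply_dualBasis_left (B := form τ) (form_nondegenerate hτ) e j i
  rw [form_apply, mul_comm] at h
  exact h

end Dual

section A

variable {k : Type u} [Field k] {E : Type v} [Field E] [Algebra k E] {W : Type w} [CommRing W] [Algebra k W]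
  {W' : Type w'} [CommRing W'] [Algebra k W']

variable (W) in
/-- `w ⊗ x ↦ τ(x) w`. -/
def tA (τ : E →ₗ[k] k) : W ⊗[k] E →ₗ[W] W :=
  (TensorProduct.AlgebraTensorModule.rid k W W).toLinearMap ∘ₗ τ.baseChange W

theorem tA_tmul (τ : E →ₗ[k] k) (w : W) (x : E) : tA W τ (w ⊗ₜ x) = τ x • w := by
  rw [tA, LinearMap.comp_apply, LinearMap.baseChange_tmul]
  exact TensorProduct.AlgebraTensorModule.rid_tmul W (τ x) w

theorem tA_map (τ : E →ₗ[k] k) (u : W →ₐ[k] W') (a : W ⊗[k] E) :
    tA W' τ (Algebra.TensorProduct.map u (AlgHom.id k E) a) = u (tA W τ a) := by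
  induction a using TensorProduct.induction_on with
  | zero => simp
  | tmul w x => rw [Algebra.TensorProduct.map_tmul, tA_tmul, tA_tmul, map_smul]; rfl
  | add a b ha hb => rw [map_add, map_add, ha, hb, map_add, map_add]

/-- The coordinate of `a` at the basis element `e'` dual to `x`. -/
abbrev co (τ : E →ₗ[k] k) (x : E) (a : W ⊗[k] E) : W := tA W τ ((1 ⊗ₜ[k] x) * a)

theorem co_tmul (τ : E →ₗ[k] k) (x : E) (w : W) (y : E) : co τ x (w ⊗ₜ y) = τ (x * y) • w := by
  rw [co, Algebra.TensorProduct.tmul_mul_tmul, tA_tmul, one_mul]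

theorem co_map (τ : E →ₗ[k] k) (x : E) (u : W →ₐ[k] W') (a : W ⊗[k] E) :
    co τ x (Algebra.TensorProduct.map u (AlgHom.id k E) a) = u (co τ x a) := by
  have h : (1 : W') ⊗ₜ[k] x * Algebra.TensorProduct.map u (AlgHom.id k E) a =
      Algebra.TensorProduct.map u (AlgHom.id k E) ((1 : W) ⊗ₜ[k] x * a) := by
    rw [map_mul (Algebra.TensorProduct.map u (AlgHom.id k E)), Algebra.TensorProduct.map_tmul, map_one]
    rfl
  rw [co, co, ← tA_map, h]

variable {ι : Type*} [Fintype ι]

section Dec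

variable [DecidableEq ι] {τ : E →ₗ[k] k} {e e' : Basis ι k E} (he : ∀ i j, τ (e i * e' j) = if i = j then 1 else 0)

include he in
theorem sum_co (x : E) : ∑ j, τ (x * e' j) • e j = x := by
  obtain ⟨c, rfl⟩ : ∃ c : ι → k, x = ∑ i, c i • e i := ⟨_, (e.sum_repr x).symm⟩
  refine Finset.sum_congr rfl fun j _ => ?_
  congr 1
  rw [Finset.sum_mul, map_sum, Finset.sum_eq_single j]
  · rw [smul_mul_assoc, map_smul, he, if_pos rfl, smul_eq_mul, mul_one]
  · intro i _ hij
    rw [smul_mul_assoc, map_smul, he, if_neg hij, smul_zero]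
  · intro h
    exact absurd (Finset.mem_univ j) h

include he in
theorem sum_co' (x : E) : ∑ j, τ (e j * x) • e' j = x := by
  obtain ⟨c, rfl⟩ : ∃ c : ι → k, x = ∑ i, c i • e' i := ⟨_, (e'.sum_repr x).symm⟩
  refine Finset.sum_congr rfl fun j _ => ?_
  congr 1
  rw [Finset.mul_sum, map_sum, Finset.sum_eq_single j]
  · rw [mul_smul_comm, map_smul, he, if_pos rfl, smul_eq_mul, mul_one]
  · intro i _ hij
    rw [mul_smul_comm, map_smul, he, if_neg (Ne.symm hij), smul_zero]
  · intro h
    exact absurd (Finset.mem_univ j) h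

include he in
theorem sum_co_tmul (a : W ⊗[k] E) : ∑ j, co τ (e j) a ⊗ₜ[k] e' j = a := by
  induction a using TensorProduct.induction_on with
  | zero =>
    refine Finset.sum_eq_zero fun j _ => ?_
    rw [co, mul_zero, map_zero, TensorProduct.zero_tmul]
  | tmul w x =>
    simp only [co_tmul]
    conv_rhs => rw [← sum_co' he x, TensorProduct.tmul_sum]
    exact Finset.sum_congr rfl fun j _ => TensorProduct.smul_tmul _ _ _
  | add a b ha hb =>
    conv_rhs => rw [← ha, ← hb]
    rw [← Finset.sum_add_distrib]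
    refine Finset.sum_congr rfl fun j _ => ?_
    rw [co, mul_add, map_add, TensorProduct.add_tmul]

include he in
theorem co_sum (w : ι → W) (i : ι) : co τ (e i) (∑ j, w j ⊗ₜ[k] e' j) = w i := by
  rw [co, Finset.mul_sum, map_sum, Finset.sum_eq_single i]
  · have := co_tmul (W := W) τ (e i) (w i) (e' i)
    rw [co] at this
    rw [this, he, if_pos rfl, one_smul]
  · intro j _ hij
    have := co_tmul (W := W) τ (e i) (w j) (e' j)
    rw [co] at this
    rw [this, he, if_neg (Ne.symm hij), zero_smul]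
  · intro h
    exact absurd (Finset.mem_univ i) h

include he in
theorem ext_co {a b : W ⊗[k] E} (h : ∀ i, co τ (e i) a = co τ (e i) b) : a = b := by
  rw [← sum_co_tmul he a, ← sum_co_tmul he b]
  exact Finset.sum_congr rfl fun j _ => by rw [h]

include he in
theorem basis_repr (a : W ⊗[k] E) (i : ι) : (Algebra.TensorProduct.basis W e').repr a i = co τ (e i) a := by
  classical
  conv_lhs => rw [← sum_co_tmul he a]
  rw [map_sum, Finsupp.finsetSum_apply, Finset.sum_eq_single i]
  · rw [Algebra.TensorProduct.basis_repr_tmul]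
    simp
  · intro j _ hij
    rw [Algebra.TensorProduct.basis_repr_tmul]
    simp [hij]
  · intro h
    exact absurd (Finset.mem_univ i) h

end Dec

/-- The elements of `W ⊗ E` with coordinates in `N`. -/
def LN (E : Type v) [Field E] [Algebra k E] (N : Submodule k W) : Submodule k (W ⊗[k] E) :=
  Submodule.span k {a | ∃ w ∈ N, ∃ x : E, a = w ⊗ₜ x}

theorem tmul_mem_LN {N : Submodule k W} {w : W} (hw : w ∈ N) (x : E) : w ⊗ₜ[k] x ∈ LN E N :=
  Submodule.subset_span ⟨w, hw, x, rfl⟩

theorem tA_mem {N : Submodule k W} {a : W ⊗[k] E} (ha : a ∈ LN E N) (τ : E →ₗ[k] k) : tA W τ a ∈ N := by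
  induction ha using Submodule.span_induction with
  | mem a h =>
    obtain ⟨w, hw, x, rfl⟩ := h
    rw [tA_tmul]
    exact N.smul_mem _ hw
  | zero => rw [map_zero]; exact zero_mem _
  | add a b _ _ ha hb => rw [map_add]; exact add_mem ha hb
  | smul c a _ ha =>
    have h1 : tA W τ (c • a) = c • tA W τ a := by
      rw [← algebraMap_smul W c a, map_smul, algebraMap_smul]
    rw [h1]
    exact N.smul_mem _ ha

theorem mul_mem_LN {O N P : Submodule k W} (h : ∀ o ∈ O, ∀ n ∈ N, o * n ∈ P) {a b : W ⊗[k] E} (ha : a ∈ LN E O)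
    (hb : b ∈ LN E N) : a * b ∈ LN E P := by
  induction ha using Submodule.span_induction with
  | mem a h1 =>
    obtain ⟨w, hw, x, rfl⟩ := h1
    induction hb using Submodule.span_induction with
    | mem b h2 =>
      obtain ⟨w', hw', x', rfl⟩ := h2
      rw [Algebra.TensorProduct.tmul_mul_tmul]
      exact tmul_mem_LN (h w hw w' hw') _
    | zero => rw [mul_zero]; exact zero_mem _
    | add b c _ _ hb hc => rw [mul_add]; exact add_mem hb hc
    | smul c b _ hb => rw [mul_smul_comm]; exact Submodule.smul_mem _ _ hb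
  | zero => rw [zero_mul]; exact zero_mem _
  | add a b _ _ ha hb => rw [add_mul]; exact add_mem ha hb
  | smul c a _ ha => rw [smul_mul_assoc]; exact Submodule.smul_mem _ _ ha

theorem map_mem_LN {N : Submodule k W} {N' : Submodule k W'} (u : W →ₐ[k] W') (h : ∀ n ∈ N, u n ∈ N')
    {a : W ⊗[k] E} (ha : a ∈ LN E N) : Algebra.TensorProduct.map u (AlgHom.id k E) a ∈ LN E N' := by
  induction ha using Submodule.span_induction with
  | mem a h1 =>
    obtain ⟨w, hw, x, rfl⟩ := h1
    rw [Algebra.TensorProduct.map_tmul]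
    exact tmul_mem_LN (h w hw) _
  | zero => rw [map_zero]; exact zero_mem _
  | add a b _ _ ha hb => rw [map_add]; exact add_mem ha hb
  | smul c a _ ha => rw [map_smul]; exact Submodule.smul_mem _ _ ha

variable [DecidableEq ι] {τ : E →ₗ[k] k} {e e' : Basis ι k E} (he : ∀ i j, τ (e i * e' j) = if i = j then 1 else 0)

include he in
theorem mem_LN_iff {N : Submodule k W} {a : W ⊗[k] E} : a ∈ LN E N ↔ ∀ i, co τ (e i) a ∈ N := by
  constructor
  · intro ha i
    refine tA_mem ?_ τ
    refine mul_mem_LN (O := (⊥ : Subalgebra k W).toSubmodule) (fun o ho n hn => ?_)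
      (tmul_mem_LN (one_mem (⊥ : Subalgebra k W)) (e i)) ha
    obtain ⟨c, rfl⟩ := Algebra.mem_bot.1 ho
    rw [← Algebra.smul_def]
    exact N.smul_mem _ hn
  · intro h
    rw [← sum_co_tmul he a]
    exact Submodule.sum_mem _ fun j _ => tmul_mem_LN (h j) _

section Phi

/-- `∑ f(e_j) ⊗ e'_j`. -/
def Phi (e e' : Basis ι k E) (f : E →ₗ[k] W) : W ⊗[k] E := ∑ j, f (e j) ⊗ₜ[k] e' j

omit [DecidableEq ι] in
theorem Phi_def (f : E →ₗ[k] W) : Phi e e' f = ∑ j, f (e j) ⊗ₜ[k] e' j := rfl

include he in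
theorem co_Phi (f : E →ₗ[k] W) (x : E) : co τ x (Phi e e' f) = f x := by
  have h1 : ∀ j, tA W τ ((1 ⊗ₜ[k] x) * f (e j) ⊗ₜ[k] e' j) = f (τ (x * e' j) • e j) := fun j => by
    rw [map_smul]
    exact co_tmul τ x _ _
  rw [co, Phi, Finset.mul_sum, map_sum]
  simp only [h1]
  rw [← map_sum, sum_co he]

include he in
theorem tA_Phi (f : E →ₗ[k] W) : tA W τ (Phi e e' f) = f 1 := by
  rw [← co_Phi he f 1, co]
  congr 1
  exact (one_mul _).symm

include he in
theorem mul_Phi (f : E →ₗ[k] W) (x : E) :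
    (1 ⊗ₜ[k] x) * Phi e e' f = Phi e e' (f ∘ₗ LinearMap.mulLeft k x) := by
  refine ext_co he fun i => ?_
  rw [co_Phi he, co, ← mul_assoc, Algebra.TensorProduct.tmul_mul_tmul, one_mul, LinearMap.comp_apply,
    LinearMap.mulLeft_apply, mul_comm x]
  exact co_Phi he f _

omit [DecidableEq ι] in
theorem smul_Phi (f : E →ₗ[k] W) (y : W) :
    (y ⊗ₜ[k] 1) * Phi e e' f = Phi e e' ((LinearMap.mulLeft k y) ∘ₗ f) := by
  rw [Phi, Phi, Finset.mul_sum]
  refine Finset.sum_congr rfl fun j _ => ?_
  rw [Algebra.TensorProduct.tmul_mul_tmul, one_mul]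
  rfl

omit [DecidableEq ι] in
theorem map_Phi (f : E →ₗ[k] W) (u : W →ₐ[k] W') :
    Algebra.TensorProduct.map u (AlgHom.id k E) (Phi e e' f) = Phi e e' (u.toLinearMap ∘ₗ f) := by
  rw [Phi, Phi, map_sum]
  rfl

omit [DecidableEq ι] in
theorem Phi_mem {N : Submodule k W} (f : E →ₗ[k] W) (hf : ∀ x, f x ∈ N) : Phi e e' f ∈ LN E N :=
  Submodule.sum_mem _ fun _ _ => tmul_mem_LN (hf _) _

omit [DecidableEq ι] in
theorem Phi_add (f g : E →ₗ[k] W) : Phi e e' (f + g) = Phi e e' f + Phi e e' g := by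
  rw [Phi, Phi, Phi, ← Finset.sum_add_distrib]
  exact Finset.sum_congr rfl fun j _ => by rw [LinearMap.add_apply, TensorProduct.add_tmul]

end Phi

end A

section Inv

variable {k : Type u} [Field k] {E : Type v} [Field E] [Algebra k E] {K : Type w} [Field K] [Algebra k K]
  {Y : Type w'} [Field Y] [Algebra k Y] (u : K →ₐ[k] Y)
  {ι : Type*} [Fintype ι] [DecidableEq ι] {τ : E →ₗ[k] k} {e e' : Basis ι k E}
  (he : ∀ i j, τ (e i * e' j) = if i = j then 1 else 0)

/-- `K ⊗ E → Y ⊗ E`. -/
abbrev inc : K ⊗[k] E →ₐ[k] Y ⊗[k] E := Algebra.TensorProduct.map u (AlgHom.id k E)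

include he in
theorem inc_injective : Function.Injective (inc (E := E) u) := by
  intro a b hab
  refine ext_co he fun i => u.toRingHom.injective ?_
  have h1 := co_map τ (e i) u a
  have h2 := co_map τ (e i) u b
  change u _ = u _
  rw [← h1, ← h2]
  exact congrArg _ hab

include he in
theorem exists_inc (σ : Y →ₐ[k] Y) (hσ : ∀ y, σ y = y → ∃ c, u c = y) {a : Y ⊗[k] E}
    (ha : Algebra.TensorProduct.map σ (AlgHom.id k E) a = a) : ∃ a', inc u a' = a := by
  have h1 : ∀ i, ∃ c, u c = co τ (e i) a := fun i => hσ _ (by rw [← co_map, ha])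
  choose c hc using h1
  refine ⟨∑ j, c j ⊗ₜ e' j, ext_co he fun i => ?_⟩
  rw [co_map, co_sum he, hc]

include he in
theorem inc_mem_LN_iff {N : Submodule k Y} {a : K ⊗[k] E} :
    inc u a ∈ LN E N ↔ a ∈ LN E (N.comap u.toLinearMap) := by
  rw [mem_LN_iff he, mem_LN_iff he]
  refine forall_congr' fun i => ?_
  rw [co_map, Submodule.mem_comap]
  rfl

end Inv

end K44.HomA
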