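import Groth.Agent.MilnorK.K44.HomA
import Groth.Agent.MilnorK.K464.DRing
import Groth.Agent.MilnorK.K464.CycEmb

/-!
# The ring `A = Y.L ⊗ E` over the model

`m : K30.Mdl X0 b`, `E` a field over `k = X0.k`, `M = E ⊗ L`, `A = Y.L ⊗ E`.

* `gM : M → A`, `sA : A → A` (`σ ⊗ 1`);
* `OO m i`, `JJ m n i`: the `k`-submodules of `Y.L` of the sections of `O`, `O(-n)` at `i`;
* `ell m c e = ∑_{t < p} σ^t(e) ∏_{j < t} σ^j(c s)`, a solution of `c s σ(ℓ) = ℓ` (`ell_eq`) if `N(c) = b⁻¹`.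
-/

set_option autoImplicit false

universe u

noncomputable section

open scoped TensorProduct
open Module

namespace K44.ModA

open K30 K464.CycEmb K464.DRing K44.HomA

variable {p : ℕ} [hp : Fact p.Prime] {X0 : K58.Kum.{u} p} {b : X0.k} (m : Mdl X0 b)

instance algY : Algebra X0.k m.Y.L := ((algebraMap m.Y.k m.Y.L).comp m.f.φ).toAlgebra

theorem algebraMap_Y (c : X0.k) : algebraMap X0.k m.Y.L c = algebraMap m.Y.k m.Y.L (m.f.φ c) := rfl

theorem algebraMap_Yk (c : X0.k) : algebraMap X0.k m.Y.k c = m.f.φ c := rfl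

theorem smul_Y (c : X0.k) (a : m.Y.L) : c • a = m.f.φ c • a := by
  rw [Algebra.smul_def, Algebra.smul_def, algebraMap_Y]

instance towY : IsScalarTower X0.k m.Y.k m.Y.L := IsScalarTower.of_algebraMap_eq fun _ => rfl

/-- `Y.k → Y.L` over `X0.k`. -/
def uK : m.Y.k →ₐ[X0.k] m.Y.L := { algebraMap m.Y.k m.Y.L with commutes' := fun _ => rfl }

theorem uK_apply (c : m.Y.k) : uK m c = algebraMap m.Y.k m.Y.L c := rfl

/-- `L → Y.L` over `X0.k`. -/
def gL : X0.L →ₐ[X0.k] m.Y.L := { m.f.g with commutes' := fun c => m.f.g_algebraMap c }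

theorem gL_apply (l : X0.L) : gL m l = m.f.g l := rfl

/-- `σ` on `Y.L` over `X0.k`. -/
def sY : m.Y.L →ₐ[X0.k] m.Y.L := { (m.Y.σ : m.Y.L →+* m.Y.L) with commutes' := fun c => m.Y.σ.commutes (m.f.φ c) }

theorem sY_apply (l : m.Y.L) : sY m l = m.Y.σ l := rfl

theorem sY_gL (l : X0.L) : sY m (gL m l) = gL m (X0.σ l) := (RingHom.congr_fun m.f.g_s l).symm

theorem sY_fix (a : m.Y.L) (ha : sY m a = a) : ∃ c, uK m c = a := by
  have h : ∀ g : m.Y.L ≃ₐ[m.Y.k] m.Y.L, g a = a := by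
    intro g
    obtain ⟨i, rfl⟩ := m.Y.exists_pow g
    induction i with
    | zero => rfl
    | succ i ih => rw [pow_succ', AlgEquiv.mul_apply, ih]; exact ha
  obtain ⟨c, hc⟩ := (IsGalois.mem_range_algebraMap_iff_fixed (F := m.Y.k) (E := m.Y.L) a).2 h
  exact ⟨c, hc⟩

/-- The sections of `O` at `i`. -/
def OO (i : m.S.I) : Submodule X0.k m.Y.L where
  carrier := {a | ∀ y, m.F.f y = i → a ∈ m.S'.V y}
  zero_mem' := fun _ _ => zero_mem _
  add_mem' := fun ha hb y hy => add_mem (ha y hy) (hb y hy)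
  smul_mem' := fun c a ha y hy => by
    rw [Algebra.smul_def, algebraMap_Y, ← K58.Kum.Hom.g_algebraMap]
    exact mul_mem (g_mem m _ y) (ha y hy)

theorem mem_OO {i : m.S.I} {a : m.Y.L} : a ∈ OO m i ↔ ∀ y, m.F.f y = i → a ∈ m.S'.V y := Iff.rfl

theorem mul_mem_OO {i : m.S.I} {a c : m.Y.L} (ha : a ∈ OO m i) (hc : c ∈ OO m i) : a * c ∈ OO m i :=
  fun y hy => mul_mem (ha y hy) (hc y hy)

theorem one_mem_OO (i : m.S.I) : (1 : m.Y.L) ∈ OO m i := fun _ _ => one_mem _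

theorem gL_mem_OO (i : m.S.I) (l : X0.L) : gL m l ∈ OO m i := fun y _ => g_mem m l y

/-- The sections of `O(-n)` at `i`. -/
def JJ (n : ℕ) (i : m.S.I) : Submodule X0.k m.Y.L where
  carrier := {a | a ∈ J m n i}
  zero_mem' := (J m n i).zero_mem
  add_mem' := fun ha hb => (J m n i).add_mem ha hb
  smul_mem' := fun c a ha => by
    change c • a ∈ J m n i
    rw [Algebra.smul_def, algebraMap_Y, ← K58.Kum.Hom.g_algebraMap]
    exact mul_mem_J m (fun y _ => g_mem m _ y) ha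

theorem mem_JJ {n : ℕ} {i : m.S.I} {a : m.Y.L} : a ∈ JJ m n i ↔ a ∈ J m n i := ⟨fun h => h, fun h => h⟩

variable (E : Type u) [Field E] [Algebra X0.k E]

/-- `A = Y.L ⊗ E`. -/
abbrev A : Type u := m.Y.L ⊗[X0.k] E

/-- `M = E ⊗ L → A = Y.L ⊗ E`. -/
def gM : E ⊗[X0.k] X0.L →ₐ[X0.k] A m E :=
  Algebra.TensorProduct.lift Algebra.TensorProduct.includeRight (Algebra.TensorProduct.includeLeft.comp (gL m))
    fun _ _ => Commute.all _ _

theorem gM_tmul (x : E) (l : X0.L) : gM m E (x ⊗ₜ l) = gL m l ⊗ₜ x := by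
  rw [gM, Algebra.TensorProduct.lift_tmul, AlgHom.comp_apply, Algebra.TensorProduct.includeRight_apply,
    Algebra.TensorProduct.includeLeft_apply, Algebra.TensorProduct.tmul_mul_tmul, one_mul, mul_one]

/-- `σ ⊗ 1` on `A`. -/
abbrev sA : A m E →ₐ[X0.k] A m E := Algebra.TensorProduct.map (sY m) (AlgHom.id X0.k E)

theorem sA_tmul (a : m.Y.L) (x : E) : sA m E (a ⊗ₜ x) = m.Y.σ a ⊗ₜ x := rfl

theorem sA_gM (z : E ⊗[X0.k] X0.L) : sA m E (gM m E z) = gM m E (tw E X0.σ z) := by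
  induction z using TensorProduct.induction_on with
  | zero => simp only [map_zero]
  | tmul x l =>
    rw [gM_tmul, Algebra.TensorProduct.map_tmul, Algebra.TensorProduct.map_tmul, gM_tmul, sY_gL]
    rfl
  | add z w hz hw => rw [map_add, map_add, hz, hw, map_add, map_add]

theorem gM_mem (i : m.S.I) (z : E ⊗[X0.k] X0.L) : gM m E z ∈ LN E (OO m i) := by
  induction z using TensorProduct.induction_on with
  | zero => rw [map_zero]; exact zero_mem _
  | tmul x l => rw [gM_tmul]; exact tmul_mem_LN (gL_mem_OO m i l) x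
  | add z w hz hw => rw [map_add]; exact add_mem hz hw

variable {E}

theorem tw_iterate_p (z : E ⊗[X0.k] X0.L) : (tw E X0.σ)^[p] z = z := by
  induction z using TensorProduct.induction_on with
  | zero => rw [iterate_map_zero]
  | tmul x l =>
    rw [tw_iterate_tmul]
    have hcard : Nat.card (X0.L ≃ₐ[X0.k] X0.L) = p := by rw [IsGalois.card_aut_eq_finrank, X0.finrank_L]
    have h := pow_card_eq_one' (x := X0.σ)
    rw [hcard] at h
    have h2 : (X0.σ ^ p) l = (X0.σ)^[p] l := by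
      rw [AlgEquiv.coe_pow]
    rw [← h2, h]
    rfl
  | add z w hz hw => rw [iterate_map_add, hz, hw]

/-- `∏_{j < t} σ^j(c)`. -/
def cP (c : E ⊗[X0.k] X0.L) (t : ℕ) : E ⊗[X0.k] X0.L := ∏ j ∈ Finset.range t, (tw E X0.σ)^[j] c

theorem cP_succ (c : E ⊗[X0.k] X0.L) (t : ℕ) : cP c (t + 1) = tw E X0.σ (cP c t) * c := by
  rw [cP, Finset.prod_range_succ', cP, map_prod]
  simp only [Function.iterate_succ_apply', Function.iterate_zero_apply]

/-- `∑_{t < p} σ^t(e) ∏_{j < t} σ^j(c s)`. -/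
def ell (c e : E ⊗[X0.k] X0.L) : A m E :=
  ∑ t ∈ Finset.range p, gM m E ((tw E X0.σ)^[t] e * cP c t) * (sP m t ⊗ₜ[X0.k] 1)

theorem ell_eq {c : E ⊗[X0.k] X0.L} (hc : cP c p = algebraMap X0.k _ b⁻¹) (e : E ⊗[X0.k] X0.L) :
    gM m E c * (m.s ⊗ₜ[X0.k] 1) * sA m E (ell m c e) = ell m c e := by
  have h1 : ∀ t, gM m E c * (m.s ⊗ₜ[X0.k] 1) *
      sA m E (gM m E ((tw E X0.σ)^[t] e * cP c t) * (sP m t ⊗ₜ[X0.k] 1)) =
      gM m E ((tw E X0.σ)^[t + 1] e * cP c (t + 1)) * (sP m (t + 1) ⊗ₜ[X0.k] 1) := by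
    intro t
    have h3 : (sP m (t + 1) ⊗ₜ[X0.k] (1 : E)) = (m.s ⊗ₜ[X0.k] 1) * sA m E (sP m t ⊗ₜ[X0.k] 1) := by
      rw [sA_tmul, Algebra.TensorProduct.tmul_mul_tmul, one_mul, sP_succ, mul_comm]
    rw [map_mul (sA m E), sA_gM, map_mul (tw E X0.σ), cP_succ, Function.iterate_succ_apply', h3, map_mul (gM m E),
      map_mul (gM m E), map_mul (gM m E)]
    ring
  have h2 : gM m E ((tw E X0.σ)^[p] e * cP c p) * (sP m p ⊗ₜ[X0.k] 1) =
      gM m E ((tw E X0.σ)^[0] e * cP c 0) * (sP m 0 ⊗ₜ[X0.k] 1) := by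
    have hb := b_ne_zero m
    have h4 : (sP m p ⊗ₜ[X0.k] (1 : E)) = algebraMap X0.k (A m E) b := by
      rw [sP_p, ← algebraMap_Y]
      rfl
    have h5 : (sP m 0 ⊗ₜ[X0.k] (1 : E)) = 1 := by
      rw [sP, Finset.prod_range_zero]
      rfl
    rw [tw_iterate_p, hc, h4, h5, map_mul, AlgHom.commutes, mul_assoc, ← map_mul, inv_mul_cancel₀ hb, map_one,
      Function.iterate_zero_apply, cP, Finset.prod_range_zero, mul_one, mul_one, mul_one]
  rw [ell, map_sum, Finset.mul_sum]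
  simp only [h1]
  have h3 := Finset.sum_range_succ' (fun t => gM m E ((tw E X0.σ)^[t] e * cP c t) * (sP m t ⊗ₜ[X0.k] 1)) p
  rw [Finset.sum_range_succ, h2] at h3
  exact (add_right_cancel h3).symm

end K44.ModA
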