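import Groth.Agent.MilnorK.K44.ModA

/-!
# The embedding `Φ : Y.L → A = Y.L ⊗ E` given by `E → D_n`

`d : DDat m n`, `j : E → D_n`, `e`, `e'` dual bases of `E`.

* `Ph d j e e' w = ∑ ρ(j(e_i)) w ⊗ e'_i`;
* `exists_cn`: if `E ⊗ L` is a field there is `c_n ∈ M = E ⊗ L` with `T = c_n`, `N(c_n) = b^{-n}`;
* `sA_Ph`: `σ(Φ(w)) = s^n c_n Φ(w)`;
* `exists_hilbert90`.
-/

set_option autoImplicit false

universe u

noncomputable section

open scoped TensorProduct
open Module

namespace K44.PhiA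

open K30 K464.CycEmb K464.DRing K44.HomA K44.ModA

variable {p : ℕ} [hp : Fact p.Prime] {X0 : K58.Kum.{u} p} {b : X0.k}

section H90

variable {E : Type u} [Field E] [Algebra X0.k E]

theorem cP_zero (c : E ⊗[X0.k] X0.L) : cP c 0 = 1 := Finset.prod_range_zero _

theorem cP_mul (c c' : E ⊗[X0.k] X0.L) (t : ℕ) : cP (c * c') t = cP c t * cP c' t := by
  rw [cP, cP, cP, ← Finset.prod_mul_distrib]
  exact Finset.prod_congr rfl fun j _ => iterate_map_mul _ _ _ _

theorem cP_one (t : ℕ) : cP (1 : E ⊗[X0.k] X0.L) t = 1 :=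
  Finset.prod_eq_one fun _ _ => iterate_map_one _ _

theorem cP_pow (c : E ⊗[X0.k] X0.L) (n t : ℕ) : cP (c ^ n) t = cP c t ^ n := by
  rw [cP, cP, ← Finset.prod_pow]
  exact Finset.prod_congr rfl fun j _ => iterate_map_pow _ _ _ _

/-- Hilbert 90 for `M / E`. -/
theorem exists_hilbert90 (hF : IsField (E ⊗[X0.k] X0.L)) {x : E ⊗[X0.k] X0.L} (hx : cP x p = 1) :
    ∃ d : E ⊗[X0.k] X0.L, d ≠ 0 ∧ x * tw E X0.σ d = d := by
  have := hF.isDomain
  obtain ⟨l₀, hl₀⟩ := exists_injective hp.out X0.finrank_L X0.σ X0.σ_ne_one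
  let χ : Fin p → (E ⊗[X0.k] X0.L →* E ⊗[X0.k] X0.L) := fun t =>
    (((tw E X0.σ) ^ (t : ℕ) : E ⊗[X0.k] X0.L →ₐ[X0.k] E ⊗[X0.k] X0.L) : E ⊗[X0.k] X0.L →* E ⊗[X0.k] X0.L)
  have hχ' : ∀ t z, χ t z = (tw E X0.σ)^[t] z := fun t z => by
    change (((tw E X0.σ) ^ (t : ℕ) : E ⊗[X0.k] X0.L →ₐ[X0.k] E ⊗[X0.k] X0.L)) z = _
    rw [AlgHom.coe_pow]
  have hχ : Function.Injective χ := by
    intro i j hij
    apply hl₀
    have h1 := DFunLike.congr_fun hij ((1 : E) ⊗ₜ[X0.k] l₀)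
    rw [hχ', hχ', tw_iterate_tmul, tw_iterate_tmul] at h1
    exact Algebra.TensorProduct.includeRight_injective (R := X0.k) (A := E) (B := X0.L)
      (FaithfulSMul.algebraMap_injective X0.k E) h1
  have hli := (linearIndependent_monoidHom (E ⊗[X0.k] X0.L) (E ⊗[X0.k] X0.L)).comp χ hχ
  rw [Fintype.linearIndependent_iff] at hli
  obtain ⟨e, he⟩ : ∃ e, ∑ t ∈ Finset.range p, (tw E X0.σ)^[t] e * cP x t ≠ 0 := by
    by_contra hall
    push Not at hall
    have h1 := hli (fun t => cP x t) (by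
      funext e
      rw [Finset.sum_apply, Pi.zero_apply, ← hall e, ← Fin.sum_univ_eq_sum_range
        (fun t => (tw E X0.σ)^[t] e * cP x t) p]
      refine Finset.sum_congr rfl fun t _ => ?_
      rw [Pi.smul_apply, smul_eq_mul, mul_comm]
      congr 1
      exact hχ' t e) ⟨0, hp.out.pos⟩
    exact one_ne_zero ((cP_zero x).symm.trans h1)
  refine ⟨_, he, ?_⟩
  have h1 : ∀ t, x * tw E X0.σ ((tw E X0.σ)^[t] e * cP x t) = (tw E X0.σ)^[t + 1] e * cP x (t + 1) := by
    intro t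
    rw [map_mul, cP_succ, Function.iterate_succ_apply']
    ring
  have h2 : (tw E X0.σ)^[p] e * cP x p = (tw E X0.σ)^[0] e * cP x 0 := by
    rw [tw_iterate_p, hx, cP_zero, Function.iterate_zero_apply]
  rw [map_sum, Finset.mul_sum]
  simp only [h1]
  have h3 := Finset.sum_range_succ' (fun t => (tw E X0.σ)^[t] e * cP x t) p
  rw [Finset.sum_range_succ, h2] at h3
  exact (add_right_cancel h3).symm

end H90

variable {m : Mdl X0 b} {n : ℕ} (d : DDat m n) {E : Type u} [Field E] [Algebra X0.k E] (j : E →ₐ[X0.k] d.D)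

/-- `T = c_n` and `N(c_n) = b^{-n}`. -/
theorem exists_cn (hE : finrank X0.k E = p) (hF : IsField (E ⊗[X0.k] X0.L)) :
    ∃ c : E ⊗[X0.k] X0.L, act j d.ι c 1 = d.T ∧ cP c p = algebraMap X0.k _ (b ^ n)⁻¹ := by
  have hfE : FiniteDimensional X0.k E := finite_of_finrank_pos (by rw [hE]; exact hp.out.pos)
  have hfD : FiniteDimensional X0.k d.D := finite_of_finrank_pos (by rw [d.finrank]; exact pow_pos hp.out.pos 2)
  let θ : E ⊗[X0.k] X0.L →ₗ[X0.k] d.D := (LinearMap.applyₗ (1 : d.D)).comp (act j d.ι).toLinearMap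
  have hθ : ∀ z, θ z = act j d.ι z 1 := fun z => rfl
  have hinj : Function.Injective θ := by
    rw [← LinearMap.ker_eq_bot, LinearMap.ker_eq_bot']
    intro z hz
    by_contra hne
    obtain ⟨w, hw⟩ := hF.mul_inv_cancel hne
    have h1 : act j d.ι (w * z) 1 = 0 := by
      rw [map_mul, Module.End.mul_apply, ← hθ, hz, map_zero]
    rw [mul_comm, hw, act_one] at h1
    exact one_ne_zero h1
  have hdim : finrank X0.k (E ⊗[X0.k] X0.L) = finrank X0.k d.D := by
    rw [finrank_tensorProduct, hE, X0.finrank_L, d.finrank, sq]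
  obtain ⟨f, hf⟩ := (LinearMap.injective_iff_surjective_of_finrank_eq_finrank hdim).1 hinj d.T
  have hpow : ∀ n : ℕ, d.T ^ n = θ (∏ i ∈ Finset.range n, (tw E X0.σ)^[i] f) := by
    intro n
    induction n with
    | zero => rw [pow_zero, Finset.prod_range_zero, hθ, act_one]
    | succ n ih =>
      rw [pow_succ', ih, hθ, mul_act j d.ι X0.σ d.T d.T_ι, mul_one, Finset.prod_range_succ', hθ, map_mul,
        Module.End.mul_apply, Function.iterate_zero_apply, ← hθ f, hf, map_prod]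
      simp only [Function.iterate_succ_apply']
  refine ⟨f, hf, hinj ?_⟩
  rw [cP, ← hpow, d.T_pow, hθ, AlgHom.commutes, Module.algebraMap_end_apply, Algebra.algebraMap_eq_smul_one]

/-- `x ↦ ρ(j x) w`. -/
def fw (w : m.Y.L) : E →ₗ[X0.k] m.Y.L where
  toFun x := d.ρ (j x) w
  map_add' x y := by rw [map_add j x y, map_add d.ρ, LinearMap.add_apply]
  map_smul' c x := by
    have h1 : j (c • x) = algebraMap X0.k d.D c * j x := by rw [map_smul j c x, Algebra.smul_def c (j x)]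
    rw [h1, map_mul d.ρ, Module.End.mul_apply, d.ρ_algebraMap]
    exact (smul_Y m c _).symm

theorem fw_apply (w : m.Y.L) (x : E) : fw d j w x = d.ρ (j x) w := rfl

theorem fw_mem {i : m.S.I} {w : m.Y.L} (hw : w ∈ J m n i) (x : E) : fw d j w x ∈ JJ m n i :=
  (d.mem_range_iff (d.ρ (j x))).1 ⟨_, rfl⟩ i w hw

theorem fw_ρ (w : m.Y.L) (x : E) : fw d j (d.ρ (j x) w) = fw d j w ∘ₗ LinearMap.mulLeft X0.k x := by
  ext y
  rw [fw_apply, LinearMap.comp_apply, LinearMap.mulLeft_apply, fw_apply, mul_comm, map_mul, map_mul]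
  rfl

/-- `x ↦ ρ(a (j x)) w`. -/
def fa (a : Module.End X0.k d.D) (w : m.Y.L) : E →ₗ[X0.k] m.Y.L where
  toFun x := d.ρ (a (j x)) w
  map_add' x y := by rw [map_add j x y, map_add a, map_add d.ρ, LinearMap.add_apply]
  map_smul' c x := by
    have h1 : a (j (c • x)) = algebraMap X0.k d.D c * a (j x) := by
      rw [map_smul j c x, map_smul a c (j x), Algebra.smul_def c (a (j x))]
    rw [h1, map_mul d.ρ, Module.End.mul_apply, d.ρ_algebraMap]
    exact (smul_Y m c _).symm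

theorem fa_apply (a : Module.End X0.k d.D) (w : m.Y.L) (x : E) : fa d j a w x = d.ρ (a (j x)) w := rfl

variable {ι : Type*} [Fintype ι] [DecidableEq ι] {τ : E →ₗ[X0.k] X0.k} {e e' : Basis ι X0.k E}
  (he : ∀ i j, τ (e i * e' j) = if i = j then 1 else 0)

include he in
theorem gM_mul (z : E ⊗[X0.k] X0.L) (w : m.Y.L) :
    gM m E z * Phi e e' (fw d j w) = Phi e e' (fa d j (act j d.ι z) w) := by
  induction z using TensorProduct.induction_on with
  | zero =>
    rw [map_zero, zero_mul, map_zero, Phi_def]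
    refine (Finset.sum_eq_zero fun i _ => ?_).symm
    rw [fa_apply, LinearMap.zero_apply, map_zero, LinearMap.zero_apply, TensorProduct.zero_tmul]
  | tmul x l =>
    have h1 : (gL m l ⊗ₜ[X0.k] x : A m E) = (gL m l ⊗ₜ 1) * (1 ⊗ₜ x) := by
      rw [Algebra.TensorProduct.tmul_mul_tmul, one_mul, mul_one]
    rw [gM_tmul, h1, mul_assoc, mul_Phi he, smul_Phi]
    congr 1
    ext y
    rw [LinearMap.comp_apply, LinearMap.comp_apply, LinearMap.mulLeft_apply, LinearMap.mulLeft_apply, fw_apply,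
      fa_apply, act_tmul, mul_comm x y, map_mul, map_mul, mul_assoc, map_mul, map_mul, Module.End.mul_apply (d.ρ (d.ι l)),
      d.ρ_ι]
    rfl
  | add z w' hz hw =>
    rw [map_add, add_mul, hz, hw, ← Phi_add, map_add]
    congr 1
    ext y
    rw [LinearMap.add_apply, fa_apply, fa_apply, fa_apply, LinearMap.add_apply, map_add, LinearMap.add_apply]

include he in
/-- `σ(Φ(w)) = s^n c_n Φ(w)`. -/
theorem sA_Ph {c : E ⊗[X0.k] X0.L} (hc : act j d.ι c 1 = d.T) (w : m.Y.L) :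
    sA m E (Phi e e' (fw d j w)) = ((m.s ^ n) ⊗ₜ 1) * gM m E c * Phi e e' (fw d j w) := by
  have h1 : ∀ x, act j d.ι c (j x) = d.T * j x := by
    intro x
    have h2 : j x = act j d.ι (x ⊗ₜ 1) 1 := by rw [act_tmul, map_one, one_mul, one_mul]
    have h3 : act j d.ι c (act j d.ι (x ⊗ₜ 1) 1) = act j d.ι (x ⊗ₜ 1) (act j d.ι c 1) := by
      rw [← Module.End.mul_apply, ← Module.End.mul_apply, ← map_mul, ← map_mul, mul_comm]
    rw [h2, h3, hc, act_tmul, map_one, one_mul, act_tmul, map_one, one_mul, one_mul]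
  rw [mul_assoc, gM_mul d j he, smul_Phi, map_Phi]
  congr 1
  ext x
  rw [LinearMap.comp_apply, LinearMap.comp_apply, fa_apply, h1, map_mul, Module.End.mul_apply, d.ρ_T,
    LinearMap.mulLeft_apply, mul_inv_cancel_left₀ (pow_ne_zero n (s_ne_zero m))]
  rfl

end K44.PhiA
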